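import Cfsg.Agent.SP.Mon.L3B.Gen
import Cfsg.Agent.SP.Mon.L3.Iface
import Cfsg.Agent.SP.Mon.NL.Pass

/-! # S5755, the Monster: box `L3B` -/

set_option autoImplicit false
set_option maxRecDepth 100000
set_option linter.style.haveILetI false

namespace Cfsg.Agent.SP.Mon.L3B

open Subgroup Cfsg
open Cfsg.Agent.BpSpor.MBigModel (MG card_M)
open Cfsg.Agent.LThreeB.Row (TA)
open Cfsg.Agent.H995.CopEngine (AllKnown)
open Cfsg.Agent.DS.M.Con (TB)
open Cfsg.Agent.SP.Mon.NL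

/-- the bound of box `CQ` -/
abbrev cQ : ℕ := 3 ^ 7 * (2 * 9797760)

theorem a_inv {x : MG} (h : T3A x) : T3A x⁻¹ := ⟨(orderOf_inv x).trans h.1, by rw [cent_inv, h.2]⟩

theorem ne_one_of {x : MG} (h : orderOf x = 3) : x ≠ 1 := fun e => by
  rw [e, orderOf_one] at h
  norm_num at h

theorem tb_conj {T : Type*} [Group T] [Finite T] {x y : T} {N : Subgroup T} (h : TB x N) (hy : y ∈ N)
    (hx : y ∉ zpowers x) : ∃ m : T, m * y * m⁻¹ = x * y := by
  classical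
  obtain ⟨m, hm, hne⟩ : ∃ m ∈ N, y * m ≠ m * y := by
    by_contra hc
    push Not at hc
    exact hx (h.cen y hy hc)
  have h1 := h.comm m hm y hy
  rw [mem_zpowers_iff_mem_range_orderOf, h.ox, Finset.mem_image] at h1
  obtain ⟨i, hi, e⟩ := h1
  have h2 := Finset.mem_range.1 hi
  have h3 : m * y * m⁻¹ = x ^ i * y := by rw [e]; group
  interval_cases i
  · exact absurd (by rw [pow_zero, one_mul] at h3; exact (mul_inv_eq_iff_eq_mul.1 h3).symm) hne
  · exact ⟨m, by rw [h3, pow_one]⟩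
  · refine ⟨m * m, ?_⟩
    have h4 : Commute m x := mem_centralizer_singleton_iff.1 (h.le hm)
    calc m * m * y * (m * m)⁻¹ = m * (m * y * m⁻¹) * m⁻¹ := by group
      _ = m * x ^ 2 * y * m⁻¹ := by rw [h3]; simp only [mul_assoc]
      _ = x ^ 2 * (m * y * m⁻¹) := by rw [(h4.pow_right 2).eq]; simp only [mul_assoc]
      _ = x ^ 3 * x * y := by rw [h3, ← mul_assoc, ← pow_add, ← pow_succ]
      _ = x * y := by rw [← h.ox, pow_orderOf_eq_one, one_mul]

/-- the hypotheses of the box -/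
structure Cfg (A V : Subgroup MG) (x₀ : MG) : Prop where
  min : MinInv 3 A V
  ab : ∀ v ∈ V, v ≠ 1 → T3A v ∨ T3B v
  mem : x₀ ∈ V
  b : T3B x₀
  le : Nat.card V ≤ 3 ^ 8

namespace Cfg

variable {A V : Subgroup MG} {x₀ : MG} (c : Cfg A V x₀)
include c

theorem ea : EA V := ⟨c.min.pow, c.min.comm⟩

theorem b_inv {v : MG} (hv : v ∈ V) (h : T3B v) : T3B v⁻¹ :=
  (c.ab _ (V.inv_mem hv) (inv_ne_one.2 (ne_one_of h.order))).resolve_left fun k => h.not_A (by simpa using a_inv k)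

theorem exists_b (hP : BoxP27) {W : Subgroup MG} (hW : W ≤ V) (h : 9 < Nat.card W) : ∃ x ∈ W, T3B x := by
  by_contra hc
  exact absurd (hP W (fun v hv h1 => (c.ab v (hW hv) h1).resolve_right fun k => hc ⟨v, hv, k⟩)
    (c.ea.mono hW).comm) (by omega)

theorem four_b (hP : BoxP27) {W : Subgroup MG} (hW : W ≤ V) (h : 27 < Nat.card W) {R : MG → Prop}
    (hR : ∀ v ∈ W, R v) : 4 ≤ {v | v ∈ (V : Set MG) \ {1} ∧ T3B v ∧ R v}.ncard := by
  haveI := BpSpor.MBigModel.finite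
  obtain ⟨x, hx, bx⟩ := c.exists_b hP hW (by omega)
  obtain ⟨U, hU, hxU, hc⟩ := hyper (c.ea.mono hW) (ne_one_of bx.order)
  obtain ⟨y, hy, by'⟩ := c.exists_b hP (hU.trans hW) (by omega)
  have hm : ∀ v ∈ W, T3B v → v ∈ {v | v ∈ (V : Set MG) \ {1} ∧ T3B v ∧ R v} := fun v hv h =>
    ⟨⟨hW hv, ne_one_of h.order⟩, h, hR v hv⟩
  have hi : x⁻¹ ∉ U := fun h => hxU (U.inv_mem_iff.1 h)
  exact (Set.three_lt_ncard_iff (Set.toFinite _)).2 ⟨x, x⁻¹, y, y⁻¹, hm _ hx bx,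
    hm _ (W.inv_mem hx) (c.b_inv (hW hx) bx), hm _ (hU hy) by', hm _ (W.inv_mem (hU hy)) (c.b_inv (hW (hU hy)) by'),
    ne_inv (c.ea.pow x (hW hx)) (ne_one_of bx.order), fun e => hxU (e ▸ hy), fun e => hxU (e ▸ U.inv_mem hy),
    fun e => hi (e ▸ hy), fun e => hi (e ▸ U.inv_mem hy), ne_inv (c.ea.pow y (hW (hU hy))) (ne_one_of by'.order)⟩

theorem mixed' (hQ : BoxCQ) {y₀ : MG} (hy : y₀ ∈ V) (ha : T3A y₀) : ∃ x ∈ V, ∃ y ∈ V, T3B x ∧ T3A y ∧
    Nat.card (centralizer ({x} : Set MG) ⊓ centralizer ({y} : Set MG) : Subgroup MG) ≤ cQ := by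
  haveI := BpSpor.MBigModel.finite
  by_contra hc
  have h1 : ∀ x ∈ V, T3B x → ∀ y ∈ V, T3A y → T3A (x * y) := fun x hx bx y hy ay => by
    obtain ⟨N, hN, h2⟩ := hQ x bx
    have h3 : y ∈ N := by
      by_contra h3
      exact hc ⟨x, hx, y, hy, bx, ay, h2 y ay.1 (c.min.comm y hy x hx) h3⟩
    obtain ⟨m, hm⟩ := tb_conj hN h3 fun h4 => by
      have h5 := card_dvd_of_le (show centralizer ({y} : Set MG) ≤ centralizer ({x} : Set MG) from fun g hg => by
        obtain ⟨i, hi⟩ := BpSpor.MBigCo.mem_swap Nat.prime_three ay.1 bx.order h4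
        rw [← hi]
        exact mem_centralizer_singleton_iff.2
          ((show Commute g y from mem_centralizer_singleton_iff.1 hg).zpow_right i).eq)
      have h6 := h5.trans bx.card_dvd
      rw [ay.2] at h6
      exact absurd h6 (by norm_num)
    exact hm ▸ ay.conj m
  have hmul : ∀ {a b : MG}, (a ∈ V ∧ ∀ y ∈ V, T3A y → T3A (a * y)) → (b ∈ V ∧ ∀ y ∈ V, T3A y → T3A (b * y)) →
      a * b ∈ V ∧ ∀ y ∈ V, T3A y → T3A (a * b * y) := fun ha hb =>
    ⟨V.mul_mem ha.1 hb.1, fun y hy ay => by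
      rw [mul_assoc]
      exact ha.2 _ (V.mul_mem hb.1 hy) (hb.2 y hy ay)⟩
  let W : Subgroup MG :=
    { carrier := {v | v ∈ V ∧ ∀ y ∈ V, T3A y → T3A (v * y)}
      one_mem' := ⟨V.one_mem, fun y _ ay => by rwa [one_mul]⟩
      mul_mem' := hmul
      inv_mem' := fun {a} ha => by
        rw [inv_eq_sq (c.min.pow a ha.1), pow_two]
        exact hmul ha ha }
  rcases c.min.min W (fun v hv => hv.1) (fun a ha w hw => ⟨c.min.norm a ha w hw.1, fun y hy ay => by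
    rw [show a * w * a⁻¹ * y = a * (w * (a⁻¹ * y * a⁻¹⁻¹)) * a⁻¹ by group]
    exact (hw.2 _ (c.min.norm _ (A.inv_mem ha) y hy) (ay.conj a⁻¹)).conj a⟩) with h | h
  · exact ne_one_of c.b.order (mem_bot.1 (h ▸ (⟨c.mem, h1 x₀ c.mem c.b⟩ : x₀ ∈ W)))
  · have h2 := (h.symm ▸ V.inv_mem hy : y₀⁻¹ ∈ W).2 y₀ hy ha
    rw [inv_mul_cancel] at h2
    exact ne_one_of h2.1 rfl

theorem mixed (hQ : BoxCQ) (h : ∃ y ∈ V, T3A y) {n : ℕ} (hn : Nat.card V ≤ 2 * n + 1) : Nat.card A ≤ n ^ 2 * cQ := by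
  haveI := BpSpor.MBigModel.finite
  obtain ⟨y₀, hy₀, ha⟩ := h
  obtain ⟨x, hx, y, hy, bx, ay, h1⟩ := c.mixed' hQ hy₀ ha
  have h2 := card_le_orb (A := A) (X := {v | v ∈ V ∧ T3B v}) (Y := {v | v ∈ V ∧ T3A v})
    (fun a ha => ⟨c.min.norm a ha x hx, bx.conj a⟩) fun a ha => ⟨c.min.norm a ha y hy, ay.conj a⟩
  refine h2.trans (Nat.mul_le_mul ?_ h1)
  have h3 : {v | v ∈ V ∧ T3B v}.ncard + {v | v ∈ V ∧ T3A v}.ncard ≤ ((V : Set MG) \ {1}).ncard := by
    rw [← Set.ncard_union_eq (Set.disjoint_left.2 fun v h1 h2 => h1.2.not_A h2.2)]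
    refine Set.ncard_le_ncard ?_
    rintro v (h | h)
    exacts [⟨h.1, ne_one_of h.2.order⟩, ⟨h.1, ne_one_of h.2.1⟩]
  have h4 := NegS.ncard_diff_one V
  generalize {v | v ∈ V ∧ T3B v}.ncard = a at h3
  generalize {v | v ∈ V ∧ T3A v}.ncard = b at h3
  have h5 : a + b ≤ 2 * n := by omega
  nlinarith [sq_nonneg ((a : ℤ) - b), Nat.mul_le_mul h5 h5]

theorem pure (h : ¬ ∃ y ∈ V, T3A y) (v : MG) (hv : v ∈ V) (h1 : v ≠ 1) : T3B v :=
  (c.ab v hv h1).resolve_left fun k => h ⟨v, hv, k⟩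

theorem card_eq : ∃ k, 1 ≤ k ∧ k ≤ 8 ∧ Nat.card V = 3 ^ k := by
  haveI := BpSpor.MBigModel.finite
  haveI : Fact (Nat.Prime 3) := ⟨Nat.prime_three⟩
  obtain ⟨k, hk⟩ := IsPGroup.iff_card.1 c.min.isPGroup
  refine ⟨k, Nat.one_le_iff_ne_zero.2 ?_, (Nat.pow_le_pow_iff_right (by norm_num)).1 (hk ▸ c.le), hk⟩
  rintro rfl
  exact c.min.ne_bot (card_eq_one.1 hk)

/-- the involutions of class `2A` -/
theorem alpha (h2 : BoxN2) : {t | t ∈ A ∧ TA t}.ncard ≤ 10 ^ 9 + 3280 * 920808 := by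
  haveI := BpSpor.MBigModel.finite
  have h1 := cnt_two c.ea (X := {t | t ∈ A ∧ TA t ∧ t * x₀ ≠ x₀ * t}) (fun v t => t * v = v⁻¹ * t) (f := 920808)
    (fun t ht => by
      have e : t * (x₀⁻¹ * (t * x₀ * t⁻¹)) = (x₀⁻¹ * (t * x₀ * t⁻¹))⁻¹ * t := by
        calc t * (x₀⁻¹ * (t * x₀ * t⁻¹)) = (t * x₀ * t⁻¹)⁻¹ * (t * t) * x₀ * (t * t)⁻¹ * t := by group
          _ = _ := by rw [ta_sq ht.2.1]; group
      refine ⟨x₀⁻¹ * (t * x₀ * t⁻¹), V.mul_mem (V.inv_mem c.mem) (c.min.norm t ht.1 _ c.mem),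
        fun e => ht.2.2 (mul_inv_eq_iff_eq_mul.1 (inv_mul_eq_one.1 e).symm), e, ?_⟩
      generalize x₀⁻¹ * (t * x₀ * t⁻¹) = v at e
      calc t * v⁻¹ = v * (v⁻¹ * t) * v⁻¹ := by group
        _ = v⁻¹⁻¹ * t := by rw [← e]; group)
    fun v hv h1 => by
      have key : ∀ t, TA t → t * v = v⁻¹ * t → TA (t⁻¹ * v) := fun t ht e => by
        have e1 : t⁻¹ * v = v * t * v⁻¹ := by
          rw [inv_eq_of_mul_eq_one_right (ta_sq ht), e]
          calc v⁻¹ * t = v * (v * (v⁻¹ * t) * v⁻¹) * (v * (v⁻¹ * t)⁻¹ * v⁻¹ * v⁻¹ * v⁻¹ * t) := by group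
            _ = v * (v * (v⁻¹ * t) * v⁻¹) * (v * (t * v)⁻¹ * (v ^ 3)⁻¹ * t) := by
              rw [e, pow_succ, pow_two]; simp only [mul_assoc, mul_inv_rev]
            _ = v * t * v⁻¹ := by rw [c.min.pow v hv]; group
        exact e1 ▸ ta_conj ht v
      rcases Set.eq_empty_or_nonempty {t | t ∈ {t | t ∈ A ∧ TA t ∧ t * x₀ ≠ x₀ * t} ∧ t * v = v⁻¹ * t} with h0 | ⟨u, hu⟩
      · rw [h0]
        simp
      · have h3 := fst_three (Y := {t | TA t}) (fun _ h => h) hu.1.2.1 (key u hu.1.2.1 hu.2) (by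
          rw [mul_inv_cancel_left]
          exact c.min.orderOf_eq Nat.prime_three hv h1)
        rw [mul_inv_cancel_left] at h3
        exact (Set.ncard_le_ncard (fun t ht => And.intro ht.1.2.1 (key t ht.1.2.1 ht.2)) (Set.toFinite _)).trans h3
  have h3 := Two.ncard_cases (X := {t | t ∈ A ∧ TA t}) (Y := {t : MG | orderOf t = 2 ∧ t * x₀ = x₀ * t})
    (Z := {t | t ∈ A ∧ TA t ∧ t * x₀ ≠ x₀ * t}) (Set.toFinite _) (Set.toFinite _) fun t ht => by
      by_cases e : t * x₀ = x₀ * t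
      exacts [Or.inl ⟨ta_order ht.2, e⟩, Or.inr ⟨ht.1, ht.2, e⟩]
  have h4 := h2 x₀ c.b
  have h5 := h1.trans (Nat.mul_le_mul_right _ (show Nat.card V - 1 ≤ 6560 by have := c.le; omega))
  omega

/-- all involutions -/
theorem beta (hP : BoxP27) (hQ : BoxCQ) (h2 : BoxN2) (hI : BoxNI) :
    {t | t ∈ A ∧ orderOf t = 2}.ncard ≤ 40 ^ 2 * cQ := by
  haveI := BpSpor.MBigModel.finite
  have hsq : ∀ t : MG, orderOf t = 2 → t * t = 1 := fun t ht => by rw [← pow_two, ← ht, pow_orderOf_eq_one]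
  have hf : ∀ v ∈ V, v ≠ 1 → {t | t ∈ {t | t ∈ A ∧ orderOf t = 2} ∧
      T3B v ∧ (t * v = v * t ∨ t * v = v⁻¹ * t)}.ncard ≤ 10 ^ 9 + 4 * 10 ^ 10 := fun v _ _ => by
    by_cases hb : T3B v
    · exact (Two.ncard_cases (Set.toFinite _) (Set.toFinite _) fun t ht =>
        ht.2.2.imp (fun e => ⟨ht.1.2, e⟩) fun e => ⟨ht.1.2, e⟩).trans (Nat.add_le_add (h2 v hb) (hI v hb))
    · exact (le_of_eq ((Set.ncard_eq_zero (Set.toFinite _)).2
        (Set.eq_empty_of_forall_notMem fun t ht => hb ht.2.1))).trans (Nat.zero_le _)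
  by_cases h3 : 729 < Nat.card V
  · have h4 := cnt (V := V) (fun v t => T3B v ∧ (t * v = v * t ∨ t * v = v⁻¹ * t)) (m := 4) (fun t ht => by
      obtain ⟨W, hW, h4, h5⟩ := split c.ea (hsq t ht.2) (c.min.norm t ht.1)
      refine c.four_b hP hW ?_ h4
      by_contra h6
      have := h5.trans (Nat.mul_le_mul (not_lt.1 h6) (not_lt.1 h6))
      omega) hf
    have h5 := h4.trans (Nat.mul_le_mul_right _ (show Nat.card V - 1 ≤ 6560 by have := c.le; omega))
    unfold cQ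
    omega
  by_cases h4 : 81 < Nat.card V ∨ ¬ ∃ y ∈ V, T3A y
  · have h5 := cnt_two c.ea (fun v t => T3B v ∧ (t * v = v * t ∨ t * v = v⁻¹ * t)) (fun t ht => by
      obtain ⟨W, hW, h5, h6⟩ := split c.ea (hsq t ht.2) (c.min.norm t ht.1)
      obtain ⟨x, hx, bx⟩ : ∃ x ∈ W, T3B x := by
        rcases h4 with h4 | h4
        · refine c.exists_b hP hW ?_
          by_contra h7
          have := h6.trans (Nat.mul_le_mul (not_lt.1 h7) (not_lt.1 h7))
          omega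
        · obtain ⟨x, hx, h7⟩ := (W.bot_or_exists_ne_one).resolve_left (by
            rintro rfl
            rw [card_bot] at h6
            exact c.min.ne_bot ((card_le_one_iff_eq_bot _).1 h6))
          exact ⟨x, hx, c.pure h4 x (hW hx) h7⟩
      exact ⟨x, hW hx, ne_one_of bx.order, ⟨bx, h5 x hx⟩, c.b_inv (hW hx) bx, comm_inv (h5 x hx)⟩) hf
    have h6 := h5.trans (Nat.mul_le_mul_right _ (show Nat.card V - 1 ≤ 728 by omega))
    unfold cQ
    omega
  · rw [not_or, not_not] at h4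
    exact (ncard_le_card_subgroup fun _ h => h.1).trans (c.mixed hQ h4.2 (by omega))

theorem two (hP : BoxP27) (hQ : BoxCQ) (h2 : BoxN2) (hI : BoxNI) {B : Subgroup MG} (h : IsPair A B)
    (hd : 2 ∣ B.relIndex A) : False := by
  haveI := BpSpor.MBigModel.finite
  exact absurd (two_le h hd (c.alpha h2) ((Set.ncard_le_ncard (fun t ht => And.intro ht.1 ht.2.1)
    (Set.toFinite _)).trans (c.beta hP hQ h2 hI))) (by norm_num [NM, cA, cB])

/-- elements with a fixed point of class `3B` -/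
theorem fixed {X : Set MG} (P : MG → Prop) {f : ℕ} (h1 : ∀ g ∈ X, P g ∧ ∃ v ∈ V, T3B v ∧ g * v = v * g)
    (h2 : ∀ x, T3B x → {y : MG | P y ∧ y * x = x * y}.ncard ≤ f) : X.ncard * 2 ≤ (Nat.card V - 1) * f := by
  haveI := BpSpor.MBigModel.finite
  refine cnt_two c.ea (fun v g => T3B v ∧ g * v = v * g) (fun g hg => ?_) fun v _ _ => ?_
  · obtain ⟨v, hv, bv, e⟩ := (h1 g hg).2
    exact ⟨v, hv, ne_one_of bv.order, ⟨bv, e⟩, c.b_inv hv bv, (show Commute g v from e).inv_right.eq⟩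
  · by_cases hb : T3B v
    · exact (Set.ncard_le_ncard (fun g hg => And.intro (h1 g hg.1).1 hg.2.2) (Set.toFinite _)).trans (h2 v hb)
    · exact (le_of_eq ((Set.ncard_eq_zero (Set.toFinite _)).2
        (Set.eq_empty_of_forall_notMem fun t ht => hb ht.2.1))).trans (Nat.zero_le _)

theorem fix_pure (h : ¬ ∃ y ∈ V, T3A y) {r : ℕ} (hr : r.Prime) (hn : ¬ r ∣ Nat.card V - 1) {g : MG} (hg : g ∈ A)
    (ho : orderOf g = r) : ∃ v ∈ V, T3B v ∧ g * v = v * g := by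
  haveI := BpSpor.MBigModel.finite
  obtain ⟨v, hv, e⟩ := Two.exists_fix hr (x := g) (by rw [← ho, pow_orderOf_eq_one]) (S := (V : Set MG) \ {1})
    (fun a ha => ⟨c.min.norm g hg a ha.1, NegS.conj_ne_one ha.2⟩) (by rwa [← NegS.ncard_diff_one V, Nat.add_sub_cancel] at hn)
  exact ⟨v, hv.1, c.pure h v hv.1 hv.2, e⟩

theorem fix_a (hP : BoxP27) (hV : 243 ≤ Nat.card V) {g : MG} (hg : g ∈ A) (ha : T3A g) :
    ∃ v ∈ V, T3B v ∧ g * v = v * g := by
  haveI := BpSpor.MBigModel.finite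
  by_contra hc
  have h1 : ∀ v ∈ V ⊓ centralizer ({g} : Set MG), v ≠ 1 → T3A v := fun v hv h1 =>
    (c.ab v hv.1 h1).resolve_right fun k => hc ⟨v, hv.1, k, (mem_centralizer_singleton_iff.1 hv.2).symm⟩
  have h3 : g ^ 3 = 1 := by rw [← ha.1, pow_orderOf_eq_one]
  obtain ⟨h4, h5⟩ := jordan c.ea h3 (c.min.norm g hg) hV (hP _ h1 (c.ea.mono inf_le_left).comm)
  have h6 : ∀ v ∈ V ⊓ centralizer ({g} : Set MG), g * v = v * g := fun v hv =>
    (mem_centralizer_singleton_iff.1 hv.2).symm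
  have h7 : ∀ v ∈ V ⊓ centralizer ({g} : Set MG), T3A (v * g) := fun v hv => by
    obtain ⟨u, hu⟩ := h5 v hv
    exact hu ▸ ha.conj u
  have h8 := hP (adj _ g h3 h6) (fun w hw h0 => by
    obtain ⟨v, hv, rfl | rfl | rfl⟩ := mem_adj hw
    · exact h1 _ hv h0
    · exact h7 v hv
    · have h9 := a_inv (h7 _ (inv_mem hv))
      rwa [mul_inv_rev, inv_inv, inv_eq_sq h3, ((show Commute g v from h6 v hv).pow_left 2).eq] at h9) (by
    rintro _ ⟨v, hv, i, rfl⟩ _ ⟨w, hw, j, rfl⟩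
    have e1 : Commute v w := c.min.comm v hv.1 w hw.1
    have e2 : Commute g v := h6 v hv
    have e3 : Commute g w := h6 w hw
    exact ((e1.mul_right (e2.symm.pow_right j)).mul_left
      ((e3.pow_left i).mul_right ((Commute.refl g).pow_pow i j))).eq)
  have h9 := Two.two_mul_card_le (le_adj (hg := h3) (hc := h6)) self_adj fun h =>
    hc ⟨x₀, c.mem, c.b, c.min.comm g h.1 x₀ c.mem⟩
  omega

theorem three (hE : BoxEv3) (hP : BoxP27) (hQ : BoxCQ) (h3 : BoxN3) (hG : BoxGam) {B : Subgroup MG} (h : IsPair A B)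
    (hd : 3 ∣ B.relIndex A) : False := by
  haveI := BpSpor.MBigModel.finite
  obtain ⟨k, k1, k8, hk⟩ := c.card_eq
  have hle : Nat.card V - 1 ≤ 6560 := by have := c.le; omega
  have h0 : ¬ 3 ∣ Nat.card V - 1 := by
    rw [hk]
    interval_cases k <;> norm_num
  have h1 : {x | x ∈ A ∧ orderOf x = 3 ∧ T3A x}.ncard ≤ 3280 * 10 ^ 11 := by
    by_cases h4 : 243 ≤ Nat.card V ∨ ¬ ∃ y ∈ V, T3A y
    · have h5 := (c.fixed (X := {x | x ∈ A ∧ orderOf x = 3 ∧ T3A x}) T3A (fun g hg => ⟨hg.2.2, h4.elim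
        (fun h4 => c.fix_a hP h4 hg.1 hg.2.2) fun h4 => c.fix_pure h4 Nat.prime_three h0 hg.1 hg.2.1⟩) hG).trans
        (Nat.mul_le_mul_right _ hle)
      omega
    · rw [not_or, not_not, hk] at h4
      refine ((ncard_le_card_subgroup fun _ h => h.1).trans (c.mixed hQ h4.2 (n := 40) ?_)).trans (by norm_num)
      rw [hk]
      have := h4.1
      interval_cases k <;> omega
  have h2 : {x | x ∈ A ∧ orderOf x = 3 ∧ ¬ T3A x}.ncard ≤ 3280 * (28 * 10 ^ 13) := by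
    by_cases h4 : ∃ y ∈ V, T3A y
    · exact ((ncard_le_card_subgroup fun _ h => h.1).trans (c.mixed hQ h4 (n := 3280) c.le)).trans (by norm_num)
    · have h5 := (c.fixed (X := {x | x ∈ A ∧ orderOf x = 3 ∧ ¬ T3A x}) (fun y => orderOf y = 3)
        (fun g hg => ⟨hg.2.1, c.fix_pure h4 Nat.prime_three h0 hg.1 hg.2.1⟩) h3).trans (Nat.mul_le_mul_right _ hle)
      omega
  have h4 := h.count_two Nat.prime_three hd T3A (fun x t _ hx => by simpa using hx.conj t⁻¹) _ _ _ dD h1 h2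
    (fun x _ _ hx => hx.2.le) fun x _ ho hx => by
      rcases tri_ev ho (hE x ho) with k | k | k
      · exact absurd k hx
      · exact Nat.le_of_dvd (by norm_num) k.card_dvd
      · rw [k.2]
        norm_num
  rw [card_M] at h4
  exact absurd h4 (by norm_num)

theorem big (hK : AllKnown.{0}) (hQ : BoxCQ) (h5 : BoxN5) {B : Subgroup MG} (h : IsPair A B) {r : ℕ} (hr : r.Prime)
    (hr5 : 5 ≤ r) (hd : r ∣ B.relIndex A) : False := by
  haveI := BpSpor.MBigModel.finite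
  have kill : ∀ n, {x | x ∈ A ∧ orderOf x = r}.ncard ≤ n → n ≤ 4 * 10 ^ 19 → False := fun n h1 h2 =>
    absurd (big_le hK h hr hr5 hd (h1.trans h2)) (by norm_num [NM])
  have hA : {x | x ∈ A ∧ orderOf x = r}.ncard ≤ Nat.card A := ncard_le_card_subgroup fun _ h => h.1
  by_cases hm : ∃ y ∈ V, T3A y
  · exact kill _ (hA.trans (c.mixed hQ hm (n := 3280) c.le)) (by norm_num)
  obtain ⟨N, hN, h2⟩ := hQ x₀ c.b
  by_cases hVN : ¬ V ≤ N
  · obtain ⟨y, hy, hyN⟩ := SetLike.not_le_iff_exists.1 hVN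
    have h3 := card_le_orb (A := A) (X := (V : Set MG)) (Y := (V : Set MG)) (fun a ha => c.min.norm a ha _ c.mem)
      fun a ha => c.min.norm a ha y hy
    rw [← Nat.card_coe_set_eq, SetLike.coe_sort_coe] at h3
    exact kill _ (hA.trans (h3.trans (Nat.mul_le_mul (Nat.mul_le_mul c.le c.le) (h2 y (c.min.orderOf_eq Nat.prime_three
      hy fun e => hyN (e ▸ N.one_mem)) (c.min.comm y hy _ c.mem) hyN)))) (by norm_num)
  have h7 := hN.ab_le (not_not.1 hVN) c.min.comm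
  have hAx := NegS.card_le_one c.min.le_normalizer c.mem (ne_one_of c.b.order)
  have hdv : Nat.card (A ⊓ centralizer ({x₀} : Set MG) : Subgroup MG) ∣ dD :=
    (card_dvd_of_le inf_le_right).trans c.b.card_dvd
  by_cases hr7 : 7 ≤ r
  · have h3 := h.count_one hr hd _ (7 * 4030387200) (hA.trans (hAx.trans (Nat.mul_le_mul
      (show Nat.card V - 1 ≤ 2186 by omega) (Nat.le_of_dvd (by norm_num) hdv)))) fun x _ hx => by
        obtain ⟨m, h1, h3⟩ := cent_all hK hr (by omega) hx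
        have h4 : ∀ e ∈ tabE ++ tabO, 7 ≤ e.1 → 0 < e.2 ∧ e.2 ≤ 7 * 4030387200 := by decide +kernel
        exact (Nat.le_of_dvd (h4 _ h1 hr7).1 h3).trans (h4 _ h1 hr7).2
    rw [card_M] at h3
    exact absurd ((Nat.mul_le_mul_right _ (show 6 ≤ r - 1 by omega)).trans h3) (by norm_num)
  obtain rfl : r = 5 := by
    by_contra h3
    obtain rfl : r = 6 := by omega
    norm_num at hr
  obtain ⟨k, k1, k8, hk⟩ := c.card_eq
  by_cases k4 : k = 4
  · subst k4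
    have h11 : ¬ 11 ∣ Nat.card (A ⊓ centralizer ({x₀} : Set MG) : Subgroup MG) := fun h3 => by
      haveI : Fact (Nat.Prime 11) := ⟨by norm_num⟩
      haveI : Fact (Nat.Prime 3) := ⟨Nat.prime_three⟩
      obtain ⟨u, hu⟩ := exists_prime_orderOf_dvd_card' 11 h3
      have ho : orderOf (u : MG) = 11 := by rw [Subgroup.orderOf_coe, hu]
      have h4 := NegS.card_cent_modEq (N := V) (x := (u : MG)) (q := 11) (k := 1) (by norm_num)
        (by rw [pow_one, ← ho, pow_orderOf_eq_one]) (c.min.le_normalizer u.2.1)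
      have h6 := card_dvd_of_le (inf_le_left : V ⊓ centralizer ({(u : MG)} : Set MG) ≤ V)
      have h8 := card_dvd_of_le (inf_le_right : V ⊓ centralizer ({(u : MG)} : Set MG) ≤ _)
      have h9 := cent_exact hK (by norm_num) le_rfl ho
      generalize Nat.card (centralizer ({(u : MG)} : Set MG)) = n at h8 h9
      obtain rfl : n = 11 * 95040 := by simpa using h9
      rw [hk] at h4 h6
      obtain ⟨j, hj, e⟩ := (Nat.dvd_prime_pow Nat.prime_three).1 h6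
      rw [e] at h4 h8
      interval_cases j <;> revert h4 h8 <;> decide
    have h3 : Nat.card (A ⊓ centralizer ({x₀} : Set MG) : Subgroup MG) ∣ dD / 11 :=
      Nat.Coprime.dvd_of_dvd_mul_left ((Nat.Prime.coprime_iff_not_dvd (by norm_num)).2 h11).symm
        (by rw [show 11 * (dD / 11) = dD by norm_num]; exact hdv)
    rw [hk] at hAx
    exact kill _ (hA.trans (hAx.trans (Nat.mul_le_mul_left _ (Nat.le_of_dvd (by norm_num) h3)))) (by norm_num)
  · have h0 : ¬ 5 ∣ Nat.card V - 1 := by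
      rw [hk] at h7 ⊢
      interval_cases k <;> first | exact absurd rfl k4 | omega
    have h3 := (c.fixed (X := {x | x ∈ A ∧ orderOf x = 5}) (fun y => orderOf y = 5)
      (fun g hg => ⟨hg.2, c.fix_pure hm hr h0 hg.1 hg.2⟩) h5).trans
      (Nat.mul_le_mul_right _ (show Nat.card V - 1 ≤ 2186 by omega))
    exact kill _ le_rfl (by omega)

end Cfg

/-- **Box `L3B`.** -/
theorem boxL3B (hK : AllKnown.{0}) (hE : BoxEv3) (hR : BoxRk) (hP : BoxP27) (hQ : BoxCQ) (h2 : BoxN2) (hI : BoxNI)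
    (h3 : BoxN3) (h5 : BoxN5) (hG : BoxGam) : BoxL3B := by
  rintro A B V h hV hab ⟨x, hx, hb⟩
  have c : Cfg A V x := ⟨hV, hab, hx, hb, hR V x hV.pow hV.comm hx hb⟩
  obtain ⟨r, hr, hd⟩ := h.exists_prime
  rcases (by have := hr.two_le; omega : r = 2 ∨ r = 3 ∨ r = 4 ∨ 5 ≤ r) with rfl | rfl | rfl | h'
  · exact c.two hP hQ h2 hI h hd
  · exact c.three hE hP hQ h3 hG h hd
  · exact absurd hr (by norm_num)
  · exact c.big hK hQ h5 h hr h' hd

end Cfsg.Agent.SP.Mon.L3B
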