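import Cfsg.Agent.SP.NegS.Gen
import Cfsg.Agent.SP.Mon.Two.Cnt
import Cfsg.Agent.SP.Mon.Odd.Gen

/-! # S5755, the Monster, box `L3B`: elementary abelian 3-groups -/

set_option autoImplicit false
set_option linter.style.haveILetI false

namespace Cfsg.Agent.SP.Mon.L3B

open Subgroup

variable {T : Type*} [Group T]

/-- elementary abelian of exponent three -/
structure EA (V : Subgroup T) : Prop where
  pow : ∀ v ∈ V, v ^ 3 = 1
  comm : ∀ v ∈ V, ∀ w ∈ V, v * w = w * v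

theorem EA.mono {V W : Subgroup T} (h : EA V) (hW : W ≤ V) : EA W :=
  ⟨fun v hv => h.pow v (hW hv), fun v hv w hw => h.comm v (hW hv) w (hW hw)⟩

theorem inv_eq_sq {g : T} (hg : g ^ 3 = 1) : g⁻¹ = g ^ 2 := inv_eq_of_mul_eq_one_right (by rw [← pow_succ', hg])

theorem ne_inv {g : T} (hg : g ^ 3 = 1) (h1 : g ≠ 1) : g ≠ g⁻¹ := fun e => h1 (by
  rw [pow_succ, pow_two] at hg
  rw [← hg, eq_comm, mul_eq_right]
  exact mul_eq_one_iff_eq_inv.2 e)

/-- `K ⟨g⟩` -/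
def adj (K : Subgroup T) (g : T) (hg : g ^ 3 = 1) (hc : ∀ c ∈ K, g * c = c * g) : Subgroup T where
  carrier := {w | ∃ c ∈ K, ∃ i : ℕ, w = c * g ^ i}
  one_mem' := ⟨1, K.one_mem, 0, by simp⟩
  mul_mem' := by
    rintro _ _ ⟨c, h1, i, rfl⟩ ⟨d, h2, j, rfl⟩
    refine ⟨c * d, K.mul_mem h1 h2, i + j, ?_⟩
    rw [mul_assoc, ← mul_assoc (g ^ i), ((show Commute g d from hc d h2).pow_left i).eq, pow_add]
    simp only [mul_assoc]
  inv_mem' := by
    rintro _ ⟨c, h1, i, rfl⟩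
    refine ⟨c⁻¹, K.inv_mem h1, 2 * i, ?_⟩
    rw [mul_inv_rev, ← inv_pow, inv_eq_sq hg, ← pow_mul,
      ((show Commute g c⁻¹ from hc _ (K.inv_mem h1)).pow_left _).eq]

theorem mem_adj {K : Subgroup T} {g : T} {hg : g ^ 3 = 1} {hc : ∀ c ∈ K, g * c = c * g} {w : T} (h : w ∈ adj K g hg hc) :
    ∃ c ∈ K, w = c ∨ w = c * g ∨ w = c * g ^ 2 := by
  obtain ⟨c, h1, i, rfl⟩ := h
  refine ⟨c, h1, ?_⟩
  rw [← Nat.div_add_mod i 3, pow_add, pow_mul, hg, one_pow, one_mul]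
  have := Nat.mod_lt i (show 0 < 3 by norm_num)
  generalize i % 3 = j at this
  interval_cases j <;> simp

theorem le_adj {K : Subgroup T} {g : T} {hg : g ^ 3 = 1} {hc : ∀ c ∈ K, g * c = c * g} : K ≤ adj K g hg hc :=
  fun c h => ⟨c, h, 0, by simp⟩

theorem self_adj {K : Subgroup T} {g : T} {hg : g ^ 3 = 1} {hc : ∀ c ∈ K, g * c = c * g} : g ∈ adj K g hg hc :=
  ⟨1, K.one_mem, 1, by simp⟩

/-- a hyperplane missing a given element -/
theorem hyper [Finite T] {W : Subgroup T} (h : EA W) {x : T} (h1 : x ≠ 1) :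
    ∃ U ≤ W, x ∉ U ∧ Nat.card W ≤ 3 * Nat.card U := by
  obtain ⟨U, ⟨hUW, hxU⟩, hmax⟩ := exists_maximal_of_wellFoundedGT (fun U : Subgroup T => U ≤ W ∧ x ∉ U)
    ⟨⊥, bot_le, by simpa using h1⟩
  refine ⟨U, hUW, hxU, ?_⟩
  have h2 := Two.cov (fun w p => p⁻¹ * w ∈ U) (X := (W : Set T)) (P := {1, x, x ^ 2}) (Set.toFinite _) (Set.toFinite _)
    (f := Nat.card U) (fun w hw => ?_) fun p _ => Two.ncard_le_of_quot fun a ha b hb => by
      rw [show a⁻¹ * b = (p⁻¹ * a)⁻¹ * (p⁻¹ * b) by group]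
      exact U.mul_mem (U.inv_mem ha.2) hb.2
  · rw [← Nat.card_coe_set_eq, SetLike.coe_sort_coe] at h2
    exact h2.trans (Nat.mul_le_mul_right _ ((Set.ncard_insert_le _ _).trans
      (Nat.succ_le_succ ((Set.ncard_insert_le _ _).trans (by simp)))))
  · have hc : ∀ c ∈ U, w * c = c * w := fun c hc => h.comm w hw c (hUW hc)
    by_cases h3 : x ∈ adj U w (h.pow w hw) hc
    · obtain ⟨c, h4, e | e | e⟩ := mem_adj h3
      · exact absurd (e ▸ h4) hxU
      · exact ⟨x, by simp, by rw [e, ← hc c h4]; simpa using h4⟩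
      · refine ⟨x ^ 2, by simp, ?_⟩
        rw [e, ((show Commute w c from hc c h4).pow_left 2).symm.mul_pow, ← pow_mul, show 2 * 2 = 3 + 1 from rfl,
          pow_succ w, h.pow w hw, one_mul, ← ((show Commute w c from hc c h4).pow_right 2).eq]
        simpa using U.pow_mem h4 2
    · refine ⟨1, by simp, ?_⟩
      have h4 : adj U w (h.pow w hw) hc ≤ U := hmax ⟨?_, h3⟩ le_adj
      · simpa using h4 self_adj
      · rintro _ ⟨c, h4, i, rfl⟩
        exact W.mul_mem (hUW h4) (W.pow_mem hw i)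

/-- an involution normalising `V` centralises or inverts a large subgroup -/
theorem split [Finite T] {V : Subgroup T} (h : EA V) {t : T} (ht : t * t = 1) (hn : ∀ v ∈ V, t * v * t⁻¹ ∈ V) :
    ∃ W ≤ V, (∀ v ∈ W, t * v = v * t ∨ t * v = v⁻¹ * t) ∧ Nat.card V ≤ Nat.card W * Nat.card W := by
  let W : Subgroup T :=
    { carrier := {v | v ∈ V ∧ t * v = v⁻¹ * t}
      one_mem' := ⟨V.one_mem, by simp⟩
      mul_mem' := by
        rintro a b ⟨ha, ea⟩ ⟨hb, eb⟩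
        refine ⟨V.mul_mem ha hb, ?_⟩
        rw [← mul_assoc, ea, mul_assoc, eb, h.comm a ha b hb, mul_inv_rev, mul_assoc]
      inv_mem' := by
        rintro a ⟨ha, ea⟩
        refine ⟨V.inv_mem ha, ?_⟩
        calc t * a⁻¹ = a * (a⁻¹ * t) * a⁻¹ := by group
          _ = a⁻¹⁻¹ * t := by rw [← ea]; group }
  have hti : t⁻¹ = t := inv_eq_of_mul_eq_one_right ht
  have h1 := Odd.ncard_le_mul (Y := (V : Set T)) (Z := ((V ⊓ centralizer ({t} : Set T) : Subgroup T) : Set T))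
    (Set.toFinite _) (fun v => v * (t * v * t⁻¹)) W (fun v hv => ⟨V.mul_mem hv (hn v hv), by
      refine mem_centralizer_singleton_iff.2 ?_
      calc v * (t * v * t⁻¹) * t = (t * t) * v * t * v := by rw [ht]; group
        _ = t * (t * v * t⁻¹ * v) := by rw [hti]; group
        _ = t * (v * (t * v * t⁻¹)) := by rw [h.comm v hv _ (hn v hv)]⟩) fun a ha b hb e => by
      refine ⟨V.mul_mem (V.inv_mem ha) hb, ?_⟩
      have e' : a * (t * a * t⁻¹) = b * (t * b * t⁻¹) := e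
      calc t * (a⁻¹ * b) = (t * a * t⁻¹)⁻¹ * b⁻¹ * (b * (t * b * t⁻¹)) * t := by group
        _ = (t * a * t⁻¹)⁻¹ * ((b⁻¹ * a) * (t * a * t⁻¹)) * t := by rw [← e']; group
        _ = (a⁻¹ * b)⁻¹ * t := by rw [h.comm _ (V.mul_mem (V.inv_mem hb) ha) _ (hn a ha)]; group
  rw [← Nat.card_coe_set_eq, ← Nat.card_coe_set_eq, SetLike.coe_sort_coe, SetLike.coe_sort_coe] at h1
  rcases le_total (Nat.card W) (Nat.card (V ⊓ centralizer ({t} : Set T) : Subgroup T)) with h2 | h2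
  · exact ⟨_, inf_le_left, fun v hv => Or.inl (mem_centralizer_singleton_iff.1 hv.2).symm,
      h1.trans (Nat.mul_le_mul_left _ h2)⟩
  · exact ⟨W, fun v hv => hv.1, fun v hv => Or.inr hv.2, h1.trans (Nat.mul_le_mul_right _ h2)⟩

theorem nil_three {M : Type*} [Group M] [Finite M] (τ : M →* M) (h : ∀ v, τ (τ (τ v)) = 1) :
    Nat.card M ≤ Nat.card τ.ker * (Nat.card (τ.range ⊓ τ.ker : Subgroup M) * Nat.card (τ.range ⊓ τ.ker : Subgroup M)) := by
  have h1 := τ.ker.card_mul_index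
  have h2 := NegS.card_inf_mul_relIndex τ.range τ.ker
  rw [index_ker] at h1
  rw [relIndex_ker] at h2
  rw [← h1, ← h2]
  refine Nat.mul_le_mul_left _ (Nat.mul_le_mul_left _ (card_le_of_le ?_))
  rintro _ ⟨_, ⟨v, rfl⟩, rfl⟩
  exact ⟨⟨_, rfl⟩, h v⟩

/-- an element of order three with few fixed points -/
theorem jordan [Finite T] {V : Subgroup T} (h : EA V) {g : T} (hg : g ^ 3 = 1) (hn : ∀ v ∈ V, g * v * g⁻¹ ∈ V)
    (hV : 243 ≤ Nat.card V) (hK : Nat.card (V ⊓ centralizer ({g} : Set T) : Subgroup T) ≤ 9) :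
    7 ≤ Nat.card (V ⊓ centralizer ({g} : Set T) : Subgroup T) ∧
      ∀ c ∈ V ⊓ centralizer ({g} : Set T), ∃ v : T, v * g * v⁻¹ = c * g := by
  letI : CommGroup V := { (inferInstance : Group V) with mul_comm := fun a b => Subtype.ext (h.comm a a.2 b b.2) }
  let σ : V →* V :=
    { toFun := fun v => ⟨g * v * g⁻¹, hn v v.2⟩
      map_one' := Subtype.ext (by simp)
      map_mul' := fun a b => Subtype.ext (by simp) }
  have hσ : ∀ v, σ (σ (σ v)) = v := fun v => Subtype.ext (by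
    show g * (g * (g * v * g⁻¹) * g⁻¹) * g⁻¹ = v
    calc g * (g * (g * v * g⁻¹) * g⁻¹) * g⁻¹ = g ^ 3 * v * (g ^ 3)⁻¹ := by
          rw [pow_succ, pow_two]; simp only [mul_assoc, mul_inv_rev]
      _ = v := by rw [hg]; simp)
  let τ : V →* V := MonoidHom.id V / σ
  have hτ : ∀ v, τ v = v / σ v := fun _ => rfl
  have h3 : ∀ v : V, v ^ 3 = 1 := fun v => Subtype.ext (h.pow v v.2)
  have h1 := nil_three τ fun v => by
    simp only [hτ, map_div, hσ]
    have e1 := h3 (σ v)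
    have e2 := h3 (σ (σ v))
    generalize σ (σ v) = b at e2
    generalize σ v = a at e1
    calc _ = b ^ 3 / a ^ 3 := by
          apply Additive.ofMul.injective
          simp only [ofMul_div, ofMul_pow]
          abel
      _ = 1 := by rw [e1, e2, div_one]
  have hk : τ.ker = (V ⊓ centralizer ({g} : Set T)).subgroupOf V := by
    ext v
    rw [MonoidHom.mem_ker, hτ, div_eq_one, mem_subgroupOf, mem_inf, mem_centralizer_singleton_iff, Subtype.ext_iff]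
    exact ⟨fun e => ⟨v.2, eq_mul_inv_iff_mul_eq.1 e⟩, fun e => eq_mul_inv_iff_mul_eq.2 e.2⟩
  have hc : Nat.card τ.ker = Nat.card (V ⊓ centralizer ({g} : Set T) : Subgroup T) := by
    rw [hk, Nat.card_congr (subgroupOfEquivOfLe inf_le_left).toEquiv]
  rw [← hc] at hK ⊢
  have h4 : Nat.card (τ.range ⊓ τ.ker : Subgroup V) ≤ Nat.card τ.ker := card_le_of_le inf_le_right
  refine ⟨?_, fun c hc' => ?_⟩
  · by_contra h5
    have := h1.trans (Nat.mul_le_mul (show _ ≤ 6 by omega) (Nat.mul_le_mul (show _ ≤ 6 by omega) (show _ ≤ 6 by omega)))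
    omega
  · by_cases h5 : (⟨c, hc'.1⟩ : V) ∈ τ.range ⊓ τ.ker
    · obtain ⟨v, hv⟩ := h5.1
      refine ⟨v, ?_⟩
      have e : (v : T) / (g * v * g⁻¹) = c := congrArg Subtype.val hv
      rw [← e, div_eq_mul_inv]
      group
    · have h6 := Two.two_mul_card_le (inf_le_right : τ.range ⊓ τ.ker ≤ τ.ker) (x := ⟨c, hc'.1⟩) (by rw [hk]; exact hc') h5
      have := h1.trans (Nat.mul_le_mul hK (Nat.mul_le_mul (show _ ≤ 4 by omega) (show _ ≤ 4 by omega)))
      omega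

/-- two orbits -/
theorem card_le_orb [Finite T] {A : Subgroup T} {X Y : Set T} {x y : T} (hX : ∀ a ∈ A, a * x * a⁻¹ ∈ X)
    (hY : ∀ a ∈ A, a * y * a⁻¹ ∈ Y) : Nat.card A ≤ X.ncard * Y.ncard *
      Nat.card (centralizer ({x} : Set T) ⊓ centralizer ({y} : Set T) : Subgroup T) := by
  rw [mul_assoc]
  refine (NegS.card_le_of_conj hX).trans (Nat.mul_le_mul_left _ ?_)
  exact (NegS.card_le_of_conj (A := A ⊓ centralizer ({x} : Set T)) fun a ha => hY a ha.1).trans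
    (Nat.mul_le_mul_left _ (card_le_of_le fun a ha => ⟨ha.1.2, ha.2⟩))

/-- double counting over the non-trivial elements of `V` -/
theorem cnt [Finite T] {V : Subgroup T} {X : Set T} (R : T → T → Prop) {m f : ℕ}
    (h1 : ∀ t ∈ X, m ≤ {v | v ∈ (V : Set T) \ {1} ∧ R v t}.ncard)
    (h2 : ∀ v ∈ V, v ≠ 1 → {t | t ∈ X ∧ R v t}.ncard ≤ f) : X.ncard * m ≤ (Nat.card V - 1) * f := by
  have := Two.dc R (X := (V : Set T) \ {1}) (Ob := X) (Set.toFinite _) (Set.toFinite _) h1 fun v hv => h2 v hv.1 hv.2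
  rwa [← NegS.ncard_diff_one V, Nat.add_sub_cancel]

theorem cnt_two [Finite T] {V : Subgroup T} (h : EA V) {X : Set T} (R : T → T → Prop) {f : ℕ}
    (h1 : ∀ t ∈ X, ∃ v ∈ V, v ≠ 1 ∧ R v t ∧ R v⁻¹ t)
    (h2 : ∀ v ∈ V, v ≠ 1 → {t | t ∈ X ∧ R v t}.ncard ≤ f) : X.ncard * 2 ≤ (Nat.card V - 1) * f := by
  refine cnt R (fun t ht => ?_) h2
  obtain ⟨v, hv, h3, h4, h5⟩ := h1 t ht
  exact (Set.one_lt_ncard_iff (Set.toFinite _)).2 ⟨v, v⁻¹, ⟨⟨hv, h3⟩, h4⟩, ⟨⟨V.inv_mem hv, inv_ne_one.2 h3⟩, h5⟩,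
    ne_inv (h.pow v hv) h3⟩

theorem cent_inv (x : T) : centralizer ({x⁻¹} : Set T) = centralizer ({x} : Set T) := by
  ext g
  rw [mem_centralizer_singleton_iff, mem_centralizer_singleton_iff]
  exact (Commute.inv_right_iff (a := g) (b := x))

theorem comm_inv {t v : T} (h : t * v = v * t ∨ t * v = v⁻¹ * t) : t * v⁻¹ = v⁻¹ * t ∨ t * v⁻¹ = v⁻¹⁻¹ * t := by
  rcases h with h | h
  · exact Or.inl (show Commute t v from h).inv_right.eq
  · right
    calc t * v⁻¹ = v * (v⁻¹ * t) * v⁻¹ := by group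
      _ = v⁻¹⁻¹ * t := by rw [← h]; group

end Cfsg.Agent.SP.Mon.L3B
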